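import Groth.Prelude.Def_CartDual2
import Mathlib.RingTheory.HopfAlgebra.Quotient
import Mathlib.RingTheory.Bialgebra.Quotient
import Mathlib.RingTheory.Idempotents
import Mathlib.RingTheory.LocalRing.Basic

/-! Unit component idempotents and translation invariant vectors under bialgebra maps. -/

set_option autoImplicit false

namespace Groth.L12.MuComp

open TensorProduct

universe u v w

/-- An idempotent cutting out a local quotient absorbs every idempotent of counit one. -/
theorem mul_eq_of_isLocalRing {R : Type u} [CommRing R] [Nontrivial R] {C : Type v} [CommRing C] [Algebra R C]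
    (ε : C →ₐ[R] R) {f g : C} (hf : IsIdempotentElem f) (hfε : ε f = 1) [IsLocalRing (C ⧸ Ideal.span ({1 - f} : Set C))]
    (hg : IsIdempotentElem g) (hgε : ε g = 1) : f * g = f := by
  have h : IsIdempotentElem (Ideal.Quotient.mk (Ideal.span ({1 - f} : Set C)) g) := hg.map _
  rcases (IsLocalRing.isUnit_or_isUnit_one_sub_self (Ideal.Quotient.mk (Ideal.span ({1 - f} : Set C)) g)) with hu | hu
  · have h1 : Ideal.Quotient.mk (Ideal.span ({1 - f} : Set C)) g = Ideal.Quotient.mk _ 1 := by
      rw [map_one]; exact hu.mul_eq_left.1 h.eq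
    obtain ⟨c, hc⟩ := Ideal.mem_span_singleton.1 (Ideal.Quotient.eq.1 h1)
    have : f * (g - 1) = 0 := by rw [hc, ← mul_assoc, mul_sub, mul_one, hf.eq, sub_self, zero_mul]
    rwa [mul_sub, mul_one, sub_eq_zero] at this
  · have h0 : Ideal.Quotient.mk (Ideal.span ({1 - f} : Set C)) g = 0 := by
      refine hu.mul_right_eq_zero.1 ?_
      rw [sub_mul, one_mul, h.eq, sub_self]
    obtain ⟨c, hc⟩ := Ideal.mem_span_singleton.1 (Ideal.Quotient.eq_zero_iff_mem.1 h0)
    exact absurd (congrArg ε hc) (by simp [hgε, hfε])

/-- A bialgebra map carries invariants to invariants as soon as the distinguished idempotents are compatible. -/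
theorem lTensor_comul_map {R : Type u} [CommRing R] {C : Type v} [CommRing C] [Bialgebra R C] {D : Type w}
    [CommRing D] [Bialgebra R D] (T : C →ₐc[R] D) {f : C} {f' : D} (hf : f' * T f = f') {x : C}
    (hx : LinearMap.lTensor C (LinearMap.mulLeft R f) (Coalgebra.comul (R := R) x) = x ⊗ₜ[R] f) :
    LinearMap.lTensor D (LinearMap.mulLeft R f') (Coalgebra.comul (R := R) (T x)) = T x ⊗ₜ[R] f' := by
  have key : ∀ z : C ⊗[R] C,
      LinearMap.lTensor D (LinearMap.mulLeft R f') (TensorProduct.map (T : C →ₗ[R] D) (T : C →ₗ[R] D) z) =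
        LinearMap.lTensor D (LinearMap.mulLeft R f')
          (TensorProduct.map (T : C →ₗ[R] D) (T : C →ₗ[R] D) (LinearMap.lTensor C (LinearMap.mulLeft R f) z)) := by
    intro z
    induction z using TensorProduct.induction_on with
    | zero => simp
    | add a b ha hb => simp only [map_add, ha, hb]
    | tmul a b =>
      simp only [LinearMap.lTensor_tmul, TensorProduct.map_tmul, LinearMap.mulLeft_apply]
      congr 1
      change f' * T b = f' * T (f * b)
      rw [map_mul, ← mul_assoc, hf]
  rw [← CoalgHomClass.map_comp_comul_apply T x, key, hx, TensorProduct.map_tmul, LinearMap.lTensor_tmul,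
    LinearMap.mulLeft_apply]
  exact congrArg _ hf

section Quot

variable {R : Type u} [CommRing R] {A : Type v} [CommRing A] [Bialgebra R A] {B : Type w} [CommRing B] [Bialgebra R B]
  (I : Ideal B) [(I.restrictScalars R).IsCoideal] (J : Ideal A) [(J.restrictScalars R).IsCoideal]

/-- The map induced on quotients. -/
noncomputable def quotMap (ψ : B →ₐc[R] A) (h : I ≤ J.comap (ψ : B →ₐ[R] A)) : (B ⧸ I) →ₐc[R] (A ⧸ J) :=
  BialgHom.ofAlgHom (Ideal.quotientMapₐ J (ψ : B →ₐ[R] A) h)
    (Ideal.Quotient.algHom_ext R (AlgHom.ext fun b => CoalgHomClass.counit_comp_apply ψ b))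
    (Ideal.Quotient.algHom_ext R (AlgHom.ext fun b => by
      show Algebra.TensorProduct.map _ _ (TensorProduct.map (Ideal.Quotient.mkₐ R I).toLinearMap
          (Ideal.Quotient.mkₐ R I).toLinearMap (Coalgebra.comul (R := R) b)) =
        TensorProduct.map (Ideal.Quotient.mkₐ R J).toLinearMap (Ideal.Quotient.mkₐ R J).toLinearMap
          (Coalgebra.comul (R := R) (ψ b))
      rw [← CoalgHomClass.map_comp_comul_apply ψ b]
      induction Coalgebra.comul (R := R) b using TensorProduct.induction_on with
      | zero => simp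
      | add a c ha hc => simp only [map_add, ha, hc]
      | tmul a c => rfl))

theorem quotMap_mk (ψ : B →ₐc[R] A) (h : I ≤ J.comap (ψ : B →ₐ[R] A)) (b : B) :
    quotMap I J ψ h (Ideal.Quotient.mk I b) = Ideal.Quotient.mk J (ψ b) := rfl

end Quot

end Groth.L12.MuComp
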